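import Cfsg.Agent.Lib.H12.J3M.S2.StepsA
import Cfsg.Agent.Lib.H12.J3M.S2.StepsB
import Cfsg.Agent.Lib.H12.J3M.S2.StepsC
import Cfsg.Agent.Lib.H12.J3M.S2.StepsD
import Cfsg.Agent.Lib.H12.J3M.S2.StepsE
import Cfsg.Agent.Lib.H12.J3M.S2.StepsF
import Cfsg.Agent.Lib.H12.J3M.S2.StepsG
import Cfsg.Agent.Lib.H12.J3M.S2.Rows

set_option autoImplicit false
set_option maxRecDepth 100000

/-! # Running the monomial certificate (generated) -/

namespace Cfsg.Agent.Lib.H12.J3M.S2

open Cfsg.Agent.Lib.H17.CosetCert (BT WT)
open Cfsg.Agent.Lib.H17.MonoCert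
open Cfsg.Agent.Lib.H12.J3M

variable {G Q A : Type*} [Group G] [MulAction G Q] [Group A] [MulAction A Q]
  [SMulCommClass G A Q] (tw : List ℤ → A) (γ : ℕ → G)

theorem run (hfree : ∀ (α β : A) (q : Q), α • q = β • q → α = β)
    (htw : TwOK ladd (List.replicate 8 0) leq tw) (q0 : Q) (hw : WordsOK Ev tw γ q0 words 250) :
    Inv F Ev tw γ q0 words 73872 12312 280 := by
  have h0 := inv_zero F Ev tw γ q0 words 250 hw
  have h1 := checkSteps_sound ladd (List.replicate 8 0) leq F Ev 6 131072 tw γ hfree htw q0 words 250 hw steps0 0 1 250 1500 439 250 h0 chk0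
  have h2 := checkSteps_sound ladd (List.replicate 8 0) leq F Ev 6 131072 tw γ hfree htw q0 words 250 hw steps1 1500 439 250 3000 881 250 h1 chk1
  have h3 := checkSteps_sound ladd (List.replicate 8 0) leq F Ev 6 131072 tw γ hfree htw q0 words 250 hw steps2 3000 881 250 4500 1323 250 h2 chk2
  have h4 := checkSteps_sound ladd (List.replicate 8 0) leq F Ev 6 131072 tw γ hfree htw q0 words 250 hw steps3 4500 1323 250 6000 1768 250 h3 chk3
  have h5 := checkSteps_sound ladd (List.replicate 8 0) leq F Ev 6 131072 tw γ hfree htw q0 words 250 hw steps4 6000 1768 250 7500 2207 250 h4 chk4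
  have h6 := checkSteps_sound ladd (List.replicate 8 0) leq F Ev 6 131072 tw γ hfree htw q0 words 250 hw steps5 7500 2207 250 9000 2649 250 h5 chk5
  have h7 := checkSteps_sound ladd (List.replicate 8 0) leq F Ev 6 131072 tw γ hfree htw q0 words 250 hw steps6 9000 2649 250 10500 3081 250 h6 chk6
  have h8 := checkSteps_sound ladd (List.replicate 8 0) leq F Ev 6 131072 tw γ hfree htw q0 words 250 hw steps7 10500 3081 250 12000 3531 250 h7 chk7
  have h9 := checkSteps_sound ladd (List.replicate 8 0) leq F Ev 6 131072 tw γ hfree htw q0 words 250 hw steps8 12000 3531 250 13500 3939 250 h8 chk8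
  have h10 := checkSteps_sound ladd (List.replicate 8 0) leq F Ev 6 131072 tw γ hfree htw q0 words 250 hw steps9 13500 3939 250 15000 4356 250 h9 chk9
  have h11 := checkSteps_sound ladd (List.replicate 8 0) leq F Ev 6 131072 tw γ hfree htw q0 words 250 hw steps10 15000 4356 250 16500 4793 250 h10 chk10
  have h12 := checkSteps_sound ladd (List.replicate 8 0) leq F Ev 6 131072 tw γ hfree htw q0 words 250 hw steps11 16500 4793 250 18000 5220 250 h11 chk11
  have h13 := checkSteps_sound ladd (List.replicate 8 0) leq F Ev 6 131072 tw γ hfree htw q0 words 250 hw steps12 18000 5220 250 19500 5638 250 h12 chk12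
  have h14 := checkSteps_sound ladd (List.replicate 8 0) leq F Ev 6 131072 tw γ hfree htw q0 words 250 hw steps13 19500 5638 250 21000 6028 250 h13 chk13
  have h15 := checkSteps_sound ladd (List.replicate 8 0) leq F Ev 6 131072 tw γ hfree htw q0 words 250 hw steps14 21000 6028 250 22500 6406 250 h14 chk14
  have h16 := checkSteps_sound ladd (List.replicate 8 0) leq F Ev 6 131072 tw γ hfree htw q0 words 250 hw steps15 22500 6406 250 24000 6849 250 h15 chk15
  have h17 := checkSteps_sound ladd (List.replicate 8 0) leq F Ev 6 131072 tw γ hfree htw q0 words 250 hw steps16 24000 6849 250 25500 7294 250 h16 chk16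
  have h18 := checkSteps_sound ladd (List.replicate 8 0) leq F Ev 6 131072 tw γ hfree htw q0 words 250 hw steps17 25500 7294 250 27000 7731 250 h17 chk17
  have h19 := checkSteps_sound ladd (List.replicate 8 0) leq F Ev 6 131072 tw γ hfree htw q0 words 250 hw steps18 27000 7731 250 28500 8169 250 h18 chk18
  have h20 := checkSteps_sound ladd (List.replicate 8 0) leq F Ev 6 131072 tw γ hfree htw q0 words 250 hw steps19 28500 8169 250 30000 8562 250 h19 chk19
  have h21 := checkSteps_sound ladd (List.replicate 8 0) leq F Ev 6 131072 tw γ hfree htw q0 words 250 hw steps20 30000 8562 250 31500 8928 250 h20 chk20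
  have h22 := checkSteps_sound ladd (List.replicate 8 0) leq F Ev 6 131072 tw γ hfree htw q0 words 250 hw steps21 31500 8928 250 33000 9350 250 h21 chk21
  have h23 := checkSteps_sound ladd (List.replicate 8 0) leq F Ev 6 131072 tw γ hfree htw q0 words 250 hw steps22 33000 9350 250 34500 9785 250 h22 chk22
  have h24 := checkSteps_sound ladd (List.replicate 8 0) leq F Ev 6 131072 tw γ hfree htw q0 words 250 hw steps23 34500 9785 250 36000 10211 250 h23 chk23
  have h25 := checkSteps_sound ladd (List.replicate 8 0) leq F Ev 6 131072 tw γ hfree htw q0 words 250 hw steps24 36000 10211 250 37500 10661 250 h24 chk24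
  have h26 := checkSteps_sound ladd (List.replicate 8 0) leq F Ev 6 131072 tw γ hfree htw q0 words 250 hw steps25 37500 10661 250 39000 11089 250 h25 chk25
  have h27 := checkSteps_sound ladd (List.replicate 8 0) leq F Ev 6 131072 tw γ hfree htw q0 words 250 hw steps26 39000 11089 250 40500 11536 250 h26 chk26
  have h28 := checkSteps_sound ladd (List.replicate 8 0) leq F Ev 6 131072 tw γ hfree htw q0 words 250 hw steps27 40500 11536 250 42000 11984 250 h27 chk27
  have h29 := checkSteps_sound ladd (List.replicate 8 0) leq F Ev 6 131072 tw γ hfree htw q0 words 250 hw steps28 42000 11984 250 43499 12312 251 h28 chk28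
  have h30 := checkSteps_sound ladd (List.replicate 8 0) leq F Ev 6 131072 tw γ hfree htw q0 words 250 hw steps29 43499 12312 251 44992 12312 258 h29 chk29
  have h31 := checkSteps_sound ladd (List.replicate 8 0) leq F Ev 6 131072 tw γ hfree htw q0 words 250 hw steps30 44992 12312 258 46485 12312 265 h30 chk30
  have h32 := checkSteps_sound ladd (List.replicate 8 0) leq F Ev 6 131072 tw γ hfree htw q0 words 250 hw steps31 46485 12312 265 47979 12312 271 h31 chk31
  have h33 := checkSteps_sound ladd (List.replicate 8 0) leq F Ev 6 131072 tw γ hfree htw q0 words 250 hw steps32 47979 12312 271 49479 12312 271 h32 chk32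
  have h34 := checkSteps_sound ladd (List.replicate 8 0) leq F Ev 6 131072 tw γ hfree htw q0 words 250 hw steps33 49479 12312 271 50979 12312 271 h33 chk33
  have h35 := checkSteps_sound ladd (List.replicate 8 0) leq F Ev 6 131072 tw γ hfree htw q0 words 250 hw steps34 50979 12312 271 52479 12312 271 h34 chk34
  have h36 := checkSteps_sound ladd (List.replicate 8 0) leq F Ev 6 131072 tw γ hfree htw q0 words 250 hw steps35 52479 12312 271 53979 12312 271 h35 chk35
  have h37 := checkSteps_sound ladd (List.replicate 8 0) leq F Ev 6 131072 tw γ hfree htw q0 words 250 hw steps36 53979 12312 271 55479 12312 271 h36 chk36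
  have h38 := checkSteps_sound ladd (List.replicate 8 0) leq F Ev 6 131072 tw γ hfree htw q0 words 250 hw steps37 55479 12312 271 56979 12312 271 h37 chk37
  have h39 := checkSteps_sound ladd (List.replicate 8 0) leq F Ev 6 131072 tw γ hfree htw q0 words 250 hw steps38 56979 12312 271 58479 12312 271 h38 chk38
  have h40 := checkSteps_sound ladd (List.replicate 8 0) leq F Ev 6 131072 tw γ hfree htw q0 words 250 hw steps39 58479 12312 271 59979 12312 271 h39 chk39
  have h41 := checkSteps_sound ladd (List.replicate 8 0) leq F Ev 6 131072 tw γ hfree htw q0 words 250 hw steps40 59979 12312 271 61479 12312 271 h40 chk40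
  have h42 := checkSteps_sound ladd (List.replicate 8 0) leq F Ev 6 131072 tw γ hfree htw q0 words 250 hw steps41 61479 12312 271 62979 12312 271 h41 chk41
  have h43 := checkSteps_sound ladd (List.replicate 8 0) leq F Ev 6 131072 tw γ hfree htw q0 words 250 hw steps42 62979 12312 271 64479 12312 271 h42 chk42
  have h44 := checkSteps_sound ladd (List.replicate 8 0) leq F Ev 6 131072 tw γ hfree htw q0 words 250 hw steps43 64479 12312 271 65979 12312 271 h43 chk43
  have h45 := checkSteps_sound ladd (List.replicate 8 0) leq F Ev 6 131072 tw γ hfree htw q0 words 250 hw steps44 65979 12312 271 67479 12312 271 h44 chk44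
  have h46 := checkSteps_sound ladd (List.replicate 8 0) leq F Ev 6 131072 tw γ hfree htw q0 words 250 hw steps45 67479 12312 271 68979 12312 271 h45 chk45
  have h47 := checkSteps_sound ladd (List.replicate 8 0) leq F Ev 6 131072 tw γ hfree htw q0 words 250 hw steps46 68979 12312 271 70479 12312 271 h46 chk46
  have h48 := checkSteps_sound ladd (List.replicate 8 0) leq F Ev 6 131072 tw γ hfree htw q0 words 250 hw steps47 70479 12312 271 71979 12312 271 h47 chk47
  have h49 := checkSteps_sound ladd (List.replicate 8 0) leq F Ev 6 131072 tw γ hfree htw q0 words 250 hw steps48 71979 12312 271 73479 12312 271 h48 chk48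
  have h50 := checkSteps_sound ladd (List.replicate 8 0) leq F Ev 6 131072 tw γ hfree htw q0 words 250 hw steps49 73479 12312 271 73872 12312 280 h49 chk49
  exact h50

end Cfsg.Agent.Lib.H12.J3M.S2
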